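import Mathlib
import Cfsg.Prelude.Def_Perm
import Cfsg.Agent.CharBasics.Induced
import Cfsg.Agent.CharBasics.Extra
import Cfsg.Agent.Derange.Basic
import Cfsg.Agent.S0190

/-!
The permutation character of a transitive action: rank, invariant subspaces, integral trace identities.
-/

set_option autoImplicit false

namespace CfsgLib.PermChar

open Cfsg CfsgLib.CharBasics
open scoped ComplexConjugate

variable {G : Type*} [Group G] {Ω : Type*} [MulAction G Ω]

/-- The permutation character. -/
noncomputable def piChar (G : Type*) [Group G] (Ω : Type*) [MulAction G Ω] : G → ℂ :=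
  fun g => (Nat.card (MulAction.fixedBy Ω g) : ℂ)

theorem permRep_apply (g : G) (v : Ω → ℂ) (x : Ω) : permRep ℂ G Ω g v x = v (g⁻¹ • x) := rfl

theorem character_permRep [Fintype Ω] : (permRep ℂ G Ω).character = piChar G Ω := by
  classical
  funext g
  show LinearMap.trace ℂ (Ω → ℂ) (permRep ℂ G Ω g) = _
  rw [LinearMap.trace_eq_matrix_trace ℂ (Pi.basisFun ℂ Ω), Matrix.trace,
    Finset.sum_congr rfl (g := fun x => if g⁻¹ • x = x then (1 : ℂ) else 0) fun x _ => by
      rw [Matrix.diag_apply, LinearMap.toMatrix_apply, Pi.basisFun_repr, Pi.basisFun_apply, permRep_apply,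
        Pi.single_apply],
    Finset.sum_boole, piChar]
  congr 1
  rw [← Fintype.card_subtype, ← Nat.card_eq_fintype_card]
  exact Nat.card_congr (Equiv.subtypeEquivRight fun x => by rw [MulAction.mem_fixedBy, inv_smul_eq_iff]; exact eq_comm)

theorem isCharacter_piChar [Fintype Ω] : IsCharacter G (piChar G Ω) := by
  classical
  rw [← character_permRep, ← repConj_character (e := (Module.finBasis ℂ (Ω → ℂ)).equivFun)]
  exact isCharacter_rep _

variable [Fintype G] [Fintype Ω] [MulAction.IsPretransitive G Ω]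

theorem inner_self_eq_rank (a : Ω) :
    classInner (piChar G Ω) (piChar G Ω) =
      (Nat.card (MulAction.orbitRel.Quotient (MulAction.stabilizer G a) Ω) : ℂ) := by
  classical
  have hπe : piChar G Ω = indFun (MulAction.stabilizer G a) (fun _ => 1) := Cfsg.Agent.S0190.result Ω a
  haveI := Fintype.ofFinite (MulAction.stabilizer G a)
  have h2 := classInner_indFun (MulAction.stabilizer G a) (fun _ => (1 : ℂ))
    (isClassFunction (isCharacter_piChar (G := G) (Ω := Ω)))
  rw [← hπe] at h2
  rw [h2, classInner_eq, Finset.sum_congr rfl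
    (g := fun h : MulAction.stabilizer G a => ((Nat.card (MulAction.fixedBy Ω h) : ℕ) : ℂ)) fun h _ => by
      simp only [one_mul, piChar, Complex.conj_natCast]; rfl]
  rw [← Nat.cast_sum, CfsgLib.Derange.sum_fixedBy, Nat.cast_mul,
    mul_comm (Nat.card (MulAction.orbitRel.Quotient _ _) : ℂ),
    inv_mul_cancel_left₀ (Nat.cast_ne_zero.mpr Nat.card_pos.ne')]

theorem invariant_const {v : Ω → ℂ} (h : ∀ g : G, permRep ℂ G Ω g v = v) (x y : Ω) : v x = v y := by
  obtain ⟨g, rfl⟩ := MulAction.exists_smul_eq G y x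
  have := congrFun (h g) (g • y)
  rw [permRep_apply, inv_smul_smul] at this
  exact this.symm

/-- A subrepresentation has degree `t + f * m`, with `t` the dimension of its fixed space. -/
theorem finrank_subrep (f : ℕ) (a : Ω)
    (hf : ∀ χ : G → ℂ, IsIrrCharacter G χ → χ ≠ (fun _ => 1) → classInner (piChar G Ω) χ ≠ 0 →
      ∃ m : ℕ, χ 1 = (f : ℂ) * m) (U : Subrepresentation (permRep ℂ G Ω)) :
    ∃ t m : ℕ, Module.finrank ℂ U.toSubmodule = t + f * m ∧
      ((fun _ => 1) ∈ U.toSubmodule → t = 1) ∧ ((fun _ => 1) ∉ U.toSubmodule → t = 0) := by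
  classical
  haveI : Nonempty Ω := ⟨a⟩
  have hG : (Nat.card G : ℂ) ≠ 0 := Nat.cast_ne_zero.mpr Nat.card_pos.ne'
  haveI : NeZero (Nat.card G : ℂ) := ⟨hG⟩
  haveI : Invertible (Nat.card G : ℂ) := invertibleOfNonzero hG
  obtain ⟨U', hU'⟩ := exists_isCompl U
  let χ := U.toRepresentation.character
  let χ' := U'.toRepresentation.character
  have hc : IsCompl U.toSubmodule U'.toSubmodule := by
    constructor
    · rw [disjoint_iff]
      exact congrArg Subrepresentation.toSubmodule hU'.inf_eq_bot
    · rw [codisjoint_iff]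
      exact congrArg Subrepresentation.toSubmodule hU'.sup_eq_top
  have hχ : IsCharacter G χ := by
    simp only [χ]
    rw [← repConj_character (e := (Module.finBasis ℂ U.toSubmodule).equivFun) U.toRepresentation]
    exact isCharacter_rep _
  have hχ' : IsCharacter G χ' := by
    simp only [χ']
    rw [← repConj_character (e := (Module.finBasis ℂ U'.toSubmodule).equivFun) U'.toRepresentation]
    exact isCharacter_rep _
  have hsum : piChar G Ω = χ + χ' := by
    rw [← character_permRep]
    funext g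
    have : (Submodule.prodEquivOfIsCompl _ _ hc).conj
        ((U.toRepresentation g).prodMap (U'.toRepresentation g)) = permRep ℂ G Ω g := by
      refine LinearMap.ext fun v => ?_
      obtain ⟨⟨x, y⟩, rfl⟩ := (Submodule.prodEquivOfIsCompl _ _ hc).surjective v
      simp [LinearEquiv.conj_apply, Subrepresentation.toRepresentation]
    show LinearMap.trace ℂ _ _ = LinearMap.trace ℂ _ _ + LinearMap.trace ℂ _ _
    rw [← this, LinearMap.trace_conj', LinearMap.trace_prodMap']
  obtain ⟨r, ψ, hψ, hψs⟩ := exists_decomp hχ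
  -- the trivial constituents
  let t := (Finset.univ.filter fun i => ψ i = fun _ => (1 : ℂ)).card
  have ht : (Module.finrank ℂ U.toRepresentation.invariants : ℂ) = t := by
    rw [← Representation.card_inv_mul_sum_char_eq_finrank U.toRepresentation,
      ← classInner_one χ, hψs, classInner_sum_left, Finset.sum_congr rfl
        (g := fun i => if ψ i = fun _ => (1 : ℂ) then (1 : ℂ) else 0) fun i _ => ?_, Finset.sum_boole]
    split_ifs with h
    · rw [h, classInner_self isIrrCharacter_one]
    · exact classInner_ne (hψ i) isIrrCharacter_one h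
  have hm : ∀ i, ∃ m : ℕ, ψ i ≠ (fun _ => 1) → ψ i 1 = (f : ℂ) * m := by
    intro i
    by_cases h : ψ i = fun _ => (1 : ℂ)
    · exact ⟨0, fun h' => absurd h h'⟩
    have hne : classInner (piChar G Ω) (ψ i) ≠ 0 := by
      obtain ⟨j, hj⟩ := classInner_character_nat hχ' ⟨ψ i, hψ i⟩
      rw [hsum, classInner_add_left, hψs, classInner_sum_left, Finset.sum_congr rfl
        (g := fun k => ((if ψ k = ψ i then 1 else 0 : ℕ) : ℂ)) fun k _ => ?_, ← Nat.cast_sum, hj,
        ← Nat.cast_add, Nat.cast_ne_zero]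
      · have : 0 < ∑ k, (if ψ k = ψ i then 1 else 0 : ℕ) :=
          Finset.sum_pos' (fun k _ => Nat.zero_le _) ⟨i, Finset.mem_univ _, by simp⟩
        omega
      · split_ifs with hk
        · rw [hk, classInner_self (hψ i), Nat.cast_one]
        · rw [classInner_ne (hψ k) (hψ i) hk, Nat.cast_zero]
    obtain ⟨m, hm⟩ := hf _ (hψ i) h hne
    exact ⟨m, fun _ => hm⟩
  choose m hm using hm
  refine ⟨t, ∑ i ∈ Finset.univ.filter (fun i => ¬ ψ i = fun _ => (1 : ℂ)), m i, ?_, ?_, ?_⟩
  · have h1 : (Module.finrank ℂ U.toSubmodule : ℂ) = χ 1 :=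
      (Representation.char_one U.toRepresentation).symm
    rw [hψs, Finset.sum_apply, ← Finset.sum_filter_add_sum_filter_not Finset.univ (fun i => ψ i = fun _ => (1 : ℂ)),
      Finset.sum_congr rfl (g := fun _ => (1 : ℂ)) fun i hi => by rw [(Finset.mem_filter.1 hi).2],
      Finset.sum_congr rfl (g := fun i => (f : ℂ) * (m i : ℂ)) fun i hi => hm i (Finset.mem_filter.1 hi).2,
      Finset.sum_const, nsmul_one, ← Finset.mul_sum] at h1
    exact_mod_cast h1
  · intro h1
    have hinv : (⟨fun _ => 1, h1⟩ : U.toSubmodule) ∈ U.toRepresentation.invariants := fun g => Subtype.ext rfl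
    have h0 : Module.finrank ℂ U.toRepresentation.invariants = 1 := by
      refine finrank_eq_one_iff_of_nonzero' (⟨⟨fun _ => 1, h1⟩, hinv⟩ : U.toRepresentation.invariants) ?_ |>.2 ?_
      · intro h0
        exact one_ne_zero (congrFun (congrArg (fun v : U.toRepresentation.invariants => ((v : U.toSubmodule) : Ω → ℂ)) h0) a)
      · rintro ⟨⟨v, hv⟩, hvi⟩
        refine ⟨v a, Subtype.ext (Subtype.ext (funext fun x => ?_))⟩
        show v a * 1 = v x
        rw [mul_one]
        exact invariant_const (fun g => congrArg Subtype.val (hvi g)) a x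
    exact_mod_cast ht.symm.trans (congrArg Nat.cast h0)
  · intro h1
    have h0 : U.toRepresentation.invariants = ⊥ := by
      rw [Submodule.eq_bot_iff]
      rintro ⟨v, hv⟩ hvi
      have hc : v = v a • fun _ => (1 : ℂ) := funext fun x => by
        simp [invariant_const (fun g => congrArg Subtype.val (hvi g)) a x]
      by_contra hne
      have hva : v a ≠ 0 := fun h0 => hne (Subtype.ext (by show v = 0; rw [hc, h0, zero_smul]))
      exact h1 (by
        have := U.toSubmodule.smul_mem (v a)⁻¹ hv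
        rwa [hc, Pi.smul_apply, smul_eq_mul, mul_one, inv_smul_smul₀ hva] at this)
    have := ht.symm.trans (congrArg (Nat.cast : ℕ → ℂ) (h0 ▸ finrank_bot ℂ U.toSubmodule))
    exact_mod_cast this

/-- Frame's divisibility. -/
theorem dvd_subdegree (f : ℕ) (a b : Ω) (hab : b ≠ a)
    (hf : ∀ χ : G → ℂ, IsIrrCharacter G χ → χ ≠ (fun _ => 1) → classInner (piChar G Ω) χ ≠ 0 →
      ∃ m : ℕ, χ 1 = (f : ℂ) * m) : f ∣ Nat.card (MulAction.orbit (MulAction.stabilizer G a) b) := by
  classical
  set k := Nat.card (MulAction.orbit (MulAction.stabilizer G a) b) with hk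
  let M : Matrix Ω Ω ℤ := fun x y => if ∃ g : G, g • a = x ∧ g • b = y then 1 else 0
  let A : Module.End ℂ (Ω → ℂ) := Matrix.toLin' (M.map (Int.castRingHom ℂ))
  have hMg : ∀ (g : G) x y, M (g • x) (g • y) = M x y := by
    intro g x y
    refine if_congr ⟨?_, ?_⟩ rfl rfl
    · rintro ⟨h, h1, h2⟩
      exact ⟨g⁻¹ * h, by rw [mul_smul, h1, inv_smul_smul], by rw [mul_smul, h2, inv_smul_smul]⟩
    · rintro ⟨h, h1, h2⟩
      exact ⟨g * h, by rw [mul_smul, h1], by rw [mul_smul, h2]⟩
  have hA : ∀ v x, A v x = ∑ y, (M x y : ℂ) * v y := fun v x => by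
    simp only [A, Matrix.toLin'_apply, Matrix.mulVec, dotProduct, Matrix.map_apply, eq_intCast]
  have hcomm : ∀ g : G, Commute A (permRep ℂ G Ω g) := fun g => LinearMap.ext fun v => funext fun x => by
    rw [Module.End.mul_apply, Module.End.mul_apply, permRep_apply, hA, hA]
    refine (Fintype.sum_equiv (MulAction.toPerm g) _ _ fun y => ?_).symm
    show (M (g⁻¹ • x) y : ℂ) * v y = (M x (g • y) : ℂ) * permRep ℂ G Ω g v (g • y)
    rw [permRep_apply, inv_smul_smul, ← hMg g (g⁻¹ • x) y, smul_inv_smul]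
  have hA1 : A (fun _ => 1) = (k : ℂ) • fun _ => 1 := by
    funext x
    rw [hA, Pi.smul_apply, smul_eq_mul, mul_one]
    simp only [mul_one]
    obtain ⟨h, rfl⟩ := MulAction.exists_smul_eq G a x
    rw [← Fintype.sum_equiv (MulAction.toPerm h) (fun y => (M a y : ℂ)) (fun y => (M (h • a) y : ℂ))
      (fun y => by rw [MulAction.toPerm_apply, hMg])]
    simp only [M, apply_ite (Int.cast : ℤ → ℂ), Int.cast_one, Int.cast_zero, Finset.sum_boole, hk]
    rw [← Fintype.card_subtype, ← Nat.card_eq_fintype_card]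
    congr 1
    refine Nat.card_congr (Equiv.subtypeEquivRight fun y => ?_)
    constructor
    · rintro ⟨g, h1, h2⟩
      exact ⟨⟨g, h1⟩, h2⟩
    · rintro ⟨⟨g, h1⟩, h2⟩
      exact ⟨g, h1, h2⟩
  have htr : LinearMap.trace ℂ _ A = 0 := by
    simp only [A, Matrix.trace_toLin'_eq, Matrix.trace, Matrix.diag_apply, Matrix.map_apply]
    refine Finset.sum_eq_zero fun x _ => ?_
    rw [show M x x = 0 from if_neg fun ⟨g, h1, h2⟩ => hab (MulAction.injective g (h2.trans h1.symm)), map_zero]
  -- eigenspaces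
  have hds := DirectSum.isInternal_submodule_of_iSupIndep_of_iSup_eq_top
    A.independent_maxGenEigenspace (Module.End.iSup_maxGenEigenspace_eq_top A)
  have hfin : {μ | A.maxGenEigenspace μ ≠ ⊥}.Finite :=
    WellFoundedGT.finite_ne_bot_of_iSupIndep A.independent_maxGenEigenspace
  have hmaps := fun μ => A.mapsTo_maxGenEigenspace_of_comm rfl μ
  rw [LinearMap.trace_eq_sum_trace_restrict' hds hfin hmaps] at htr
  have hrestr : ∀ μ : ℂ, LinearMap.trace ℂ _ (A.restrict (hmaps μ)) =
      (Module.finrank ℂ (A.maxGenEigenspace μ) : ℂ) * μ := by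
    intro μ
    have hn : IsNilpotent ((A - algebraMap ℂ (Module.End ℂ (Ω → ℂ)) μ).restrict
        (A.mapsTo_maxGenEigenspace_of_comm (Algebra.mul_sub_algebraMap_commutes A μ) μ)) :=
      A.isNilpotent_restrict_maxGenEigenspace_sub_algebraMap μ
    have h0 := LinearMap.isNilpotent_trace_of_isNilpotent hn
    rw [isNilpotent_iff_eq_zero] at h0
    rw [show A.restrict (hmaps μ) = (A - algebraMap ℂ (Module.End ℂ (Ω → ℂ)) μ).restrict
        (A.mapsTo_maxGenEigenspace_of_comm (Algebra.mul_sub_algebraMap_commutes A μ) μ) + μ • 1 from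
      LinearMap.ext fun v => Subtype.ext (by
        show A (v : Ω → ℂ) = (A - algebraMap ℂ (Module.End ℂ (Ω → ℂ)) μ) (v : Ω → ℂ) + μ • (v : Ω → ℂ)
        rw [LinearMap.sub_apply, Module.algebraMap_end_apply, sub_add_cancel]), map_add, h0, zero_add, map_smul, LinearMap.trace_one,
      smul_eq_mul, mul_comm]
  rw [Finset.sum_congr rfl fun μ _ => hrestr μ] at htr
  have hint : ∀ μ ∈ hfin.toFinset, IsIntegral ℤ μ := by
    intro μ hμ
    rw [Set.Finite.mem_toFinset] at hμ
    have h1 : Module.End.HasEigenvalue A μ :=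
      Module.End.HasUnifEigenvalue.lt zero_lt_one (k := ⊤) hμ
    rw [Module.End.hasEigenvalue_iff_isRoot_charpoly, Matrix.charpoly_toLin', Matrix.charpoly_map] at h1
    refine ⟨M.charpoly, Matrix.charpoly_monic M, ?_⟩
    rwa [Polynomial.IsRoot, Polynomial.eval_map] at h1
  have hdim : ∀ μ : ℂ, ∃ m : ℕ, (Module.finrank ℂ (A.maxGenEigenspace μ) : ℂ) =
      (if μ = k then 1 else 0) + (f : ℂ) * m := by
    intro μ
    let U : Subrepresentation (permRep ℂ G Ω) :=
      ⟨A.maxGenEigenspace μ, fun g v hv => A.mapsTo_maxGenEigenspace_of_comm (hcomm g) μ hv⟩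
    obtain ⟨t, m, hd, ht1, ht0⟩ := finrank_subrep f a hf U
    refine ⟨m, ?_⟩
    have key : ((fun _ => (1 : ℂ)) ∈ A.maxGenEigenspace μ) ↔ μ = k := by
      constructor
      · intro h
        by_contra hne
        have hk' : (fun _ => (1 : ℂ)) ∈ A.maxGenEigenspace (k : ℂ) :=
          Module.End.eigenspace_le_maxGenEigenspace (Module.End.mem_eigenspace_iff.2 hA1)
        have h0 := (A.independent_maxGenEigenspace.pairwiseDisjoint hne).le_bot ⟨h, hk'⟩
        exact one_ne_zero (congrFun ((Submodule.mem_bot ℂ).1 h0) a)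
      · rintro rfl
        exact Module.End.eigenspace_le_maxGenEigenspace (Module.End.mem_eigenspace_iff.2 hA1)
    change (Module.finrank ℂ U.toSubmodule : ℂ) = _
    split_ifs with h
    · rw [hd, ht1 (key.2 h), Nat.cast_add, Nat.cast_mul, Nat.cast_one]
    · rw [hd, ht0 (fun h' => h (key.1 h')), Nat.cast_add, Nat.cast_mul, Nat.cast_zero]
  choose m hm using hdim
  simp only [hm, add_mul, ite_mul, one_mul, zero_mul, Finset.sum_add_distrib, Finset.sum_ite_eq'] at htr
  rw [if_pos] at htr
  swap
  · rw [Set.Finite.mem_toFinset]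
    intro h
    have : (fun _ => (1 : ℂ)) ∈ A.maxGenEigenspace (k : ℂ) :=
      Module.End.eigenspace_le_maxGenEigenspace (Module.End.mem_eigenspace_iff.2 hA1)
    rw [h, Submodule.mem_bot] at this
    exact one_ne_zero (congrFun this a)
  rcases Nat.eq_zero_or_pos f with rfl | hfpos
  · simp only [Nat.cast_zero, zero_mul, Finset.sum_const_zero, add_zero, Nat.cast_eq_zero] at htr
    rw [htr]
  simp only [mul_assoc, ← Finset.mul_sum] at htr
  refine natCast_dvd_of_eq hfpos.ne' (z := -∑ μ ∈ hfin.toFinset, (m μ : ℂ) * μ) ?_ (by linear_combination htr)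
  exact IsIntegral.neg (IsIntegral.sum _ fun μ hμ => (isIntegral_algebraMap (x := (m μ : ℤ))).mul (hint μ hμ))
where
  natCast_dvd_of_eq {f k : ℕ} (hf : f ≠ 0) {z : ℂ} (hz : IsIntegral ℤ z) (h : (k : ℂ) = f * z) : f ∣ k := by
    refine CfsgLib.CharBasics.nat_dvd_of_isIntegral k f hf ?_
    rwa [h, mul_div_cancel_left₀ _ (Nat.cast_ne_zero.mpr hf)]

end CfsgLib.PermChar
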